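import Groth.Agent.AVCogen.Frob
import Groth.Agent.S11999
import Groth.Agent.S7795
import Groth.Agent.AVRosati.Reduc
import Groth.Agent.AVRosati.FinQuot
import Groth.Agent.AVHomLib.TateIndep
import Groth.Agent.GrpSchLib.RigidHom
import Mathlib.AlgebraicGeometry.ZariskisMainTheorem

/-!
# Images, quotients and jointly monomorphic families of homomorphisms
-/

set_option autoImplicit false
set_option linter.style.haveILetI false
set_option linter.unusedSectionVars false
set_option backward.isDefEq.respectTransparency false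
set_option backward.isDefEq.respectTransparency.types false
set_option synthInstance.maxHeartbeats 400000
set_option maxHeartbeats 1000000

universe u

noncomputable section

open CategoryTheory CategoryTheory.Limits AlgebraicGeometry MonoidalCategory CartesianMonoidalCategory
open scoped MonObj

attribute [-instance] CategoryTheory.catToReflQuiver

namespace Groth.Agent.AVCogen

variable {k : Type u} [Field k]

/-- a homomorphism factors as a surjection followed by a closed immersion -/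
theorem exists_factor_image {X Y : Over (Spec (CommRingCat.of k))} [GrpObj X] [IsProper X.hom]
    [GeometricallyIntegral X.hom] [GrpObj Y] [IsProper Y.hom] [GeometricallyIntegral Y.hom] (f : X ⟶ Y) [IsMonHom f] :
    ∃ (N : Over (Spec (CommRingCat.of k))) (_ : GrpObj N) (q : X ⟶ N) (j : N ⟶ Y), IsMonHom q ∧ IsMonHom j ∧
      IsClosedImmersion j.left ∧ Surjective q.left ∧ IsProper N.hom ∧ GeometricallyIntegral N.hom ∧ q ≫ j = f := by
  haveI : IsCommMonObj Y := isCommMonObj_of_isProper_of_geometricallyIntegral Y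
  haveI : IsCommMonObj X := isCommMonObj_of_isProper_of_geometricallyIntegral X
  haveI : IsIntegral X.left := H23.MaxAbelian.isIntegral_of_geometricallyIntegral
  obtain ⟨N, _, j, hj, hjc, hNp, hNi, hr⟩ := IsogLib.exists_image f
  haveI := hj
  haveI := hjc
  haveI := hNp
  haveI := hNi
  obtain ⟨g, hg⟩ := H23.RedSub.exists_lift_closed f.left j.left hr.superset
  let q : X ⟶ N := Over.homMk g (by rw [← Over.w j, ← Category.assoc, hg, Over.w])
  have hq : q ≫ j = f := Over.OverMorphism.ext hg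
  haveI : Surjective q.left := ⟨fun c => by
    obtain ⟨a, ha⟩ : j.left c ∈ Set.range f.left := hr.subset ⟨c, rfl⟩
    refine ⟨a, j.left.isEmbedding.injective ?_⟩
    have := congr(($hq).left a)
    rw [Over.comp_left, Scheme.Hom.comp_apply] at this
    exact this.trans ha⟩
  haveI : Mono j := (Over.forget _).mono_of_mono_map (inferInstanceAs (Mono j.left))
  have hq1 : η[X] ≫ q = η[N] := by
    rw [← cancel_mono j, Category.assoc, hq, IsMonHom.one_hom, IsMonHom.one_hom]
  exact ⟨N, inferInstance, q, j, GrpSchLib.RigidHom.isMonHom_of_one q hq1, hj, hjc, inferInstance, hNp, hNi, hq⟩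

/-- a closed immersion of abelian varieties has a quasi-retraction -/
theorem exists_retraction {X Y : Over (Spec (CommRingCat.of k))} [GrpObj X] [IsProper X.hom]
    [GeometricallyIntegral X.hom] [GrpObj Y] [IsProper Y.hom] [GeometricallyIntegral Y.hom]
    (i : X ⟶ Y) [IsMonHom i] [IsClosedImmersion i.left] :
    ∃ (u : Y ⟶ X) (n : ℕ), IsMonHom u ∧ 0 < n ∧ i ≫ u = (𝟙 X) ^ n := by
  haveI : IsCommMonObj Y := isCommMonObj_of_isProper_of_geometricallyIntegral Y
  haveI : IsCommMonObj X := isCommMonObj_of_isProper_of_geometricallyIntegral X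
  haveI : Smooth X.hom := S7795.result X
  haveI : Smooth Y.hom := S7795.result Y
  obtain ⟨ψ, n, hn, hψ⟩ := AVRosati.Reduc.exists_quasi_retraction (G := Y) (A := X) i
  let u : Y ⟶ X := ψ * ((1 : Y ⟶ Y) ≫ ψ)⁻¹
  haveI hu : IsMonHom u := by
    refine GrpSchLib.RigidHom.isMonHom_of_one u ?_
    simp only [u, MonObj.comp_mul, GrpObj.comp_inv, ← Category.assoc]
    rw [MonObj.comp_one η[Y], MonObj.one_eq_one, mul_inv_cancel]
  refine ⟨u, n, hu, hn, ?_⟩
  have h := hψ X (1 : X ⟶ Y) (𝟙 X)
  rw [_root_.one_mul, Category.id_comp] at h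
  have h1 : i ≫ (1 : Y ⟶ Y) ≫ ψ = (1 : X ⟶ Y) ≫ ψ := by rw [← Category.assoc, MonObj.comp_one]
  simp only [u, MonObj.comp_mul, GrpObj.comp_inv, h1, h]
  rw [mul_comm ((1 : X ⟶ Y) ≫ ψ), mul_inv_cancel_right]

variable {A X Y : Over (Spec (CommRingCat.of k))}
  [GrpObj A] [IsCommMonObj A] [IsProper A.hom] [GeometricallyIntegral A.hom]
  [GrpObj X] [IsCommMonObj X] [IsProper X.hom] [GeometricallyIntegral X.hom]
  [GrpObj Y] [IsCommMonObj Y] [IsProper Y.hom] [GeometricallyIntegral Y.hom]

/-- `Hom` groups have no torsion -/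
theorem eq_zero_of_nsmul {n : ℕ} (hn : 0 < n) {f : EndAV.Hom X A} (h : n • f = 0) : f = 0 := by
  haveI := (AVHomLib.hom_free (A := X) (B := A)).2
  exact (smul_eq_zero.1 ((natCast_zsmul f n).trans h : ((n : ℤ)) • f = 0)).resolve_left (by exact_mod_cast hn.ne')

/-- surjections cancel -/
theorem cancel_hom (q : EndAV.Hom X Y) [Surjective q.toHom.left] {f g : EndAV.Hom Y A}
    (h : q ≫ f = q ≫ g) : f = g := by
  haveI : IsIntegral Y.left := H23.MaxAbelian.isIntegral_of_geometricallyIntegral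
  exact EndAV.Hom.ext (AVRosati.Factor.cancel_surjective q.toHom
    (show q.toHom ≫ f.toHom = q.toHom ≫ g.toHom from congrArg EndAV.Hom.toHom h))

/-- a finite power of an abelian variety receiving a given finite family of homomorphisms -/
theorem exists_pow_map {n : ℕ} (ψ : Fin n → EndAV.Hom X A) :
    ∃ (Q : Over (Spec (CommRingCat.of k))) (_ : GrpObj Q) (_ : IsCommMonObj Q) (_ : IsProper Q.hom)
      (_ : GeometricallyIntegral Q.hom) (p : Fin n → EndAV.Hom Q A) (h : EndAV.Hom X Q),
      (∀ (T : Over (Spec (CommRingCat.of k))) (a b : T ⟶ Q), (∀ t, a ≫ (p t).toHom = b ≫ (p t).toHom) → a = b) ∧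
      (∀ t, h ≫ p t = ψ t) ∧
      ∀ (Z : Over (Spec (CommRingCat.of k))) [GrpObj Z] [IsCommMonObj Z] [IsProper Z.hom] [GeometricallyIntegral Z.hom]
        (g : Fin n → EndAV.Hom Z A), ∃ F : EndAV.Hom Z Q, ∀ t, F ≫ p t = g t := by
  obtain ⟨g, hg⟩ := AVDegPoly.exists_dim (A := A)
  obtain ⟨Q, _, _, p, hQp, hQi, -, hpm, hpe, hpl⟩ :=
    IsogLib.exists_product n (fun _ => A) (fun _ => g) fun _ => hg
  haveI := hpm
  obtain ⟨h, hh, hhp⟩ := hpl (fun t => (ψ t).toHom)
  haveI := hh
  refine ⟨Q, inferInstance, inferInstance, hQp, hQi, fun t => EndAV.Hom.of (p t), EndAV.Hom.of h,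
    fun T a b hab => hpe a b hab, fun t => EndAV.Hom.ext (hhp t), fun Z _ _ _ _ g => ?_⟩
  obtain ⟨F, hF, hFp⟩ := hpl (fun t => (g t).toHom)
  haveI := hF
  exact ⟨EndAV.Hom.of F, fun t => EndAV.Hom.ext (hFp t)⟩

/-- homomorphisms out of a power are linear combinations of the projections -/
theorem exists_coords {n : ℕ} {Q : Over (Spec (CommRingCat.of k))} [GrpObj Q] [IsCommMonObj Q] [IsProper Q.hom]
    [GeometricallyIntegral Q.hom] (p : Fin n → EndAV.Hom Q A)
    (hpe : ∀ (T : Over (Spec (CommRingCat.of k))) (a b : T ⟶ Q), (∀ t, a ≫ (p t).toHom = b ≫ (p t).toHom) → a = b)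
    (hpl : ∀ (Z : Over (Spec (CommRingCat.of k))) [GrpObj Z] [IsCommMonObj Z] [IsProper Z.hom] [GeometricallyIntegral Z.hom]
        (g : Fin n → EndAV.Hom Z A), ∃ F : EndAV.Hom Z Q, ∀ t, F ≫ p t = g t)
    (f : EndAV.Hom Q A) : ∃ s : Fin n → EndAV.Hom A A, f = ∑ l, p l ≫ s l := by
  classical
  choose inc hinc using fun l => hpl A (fun t => if l = t then 𝟙 _ else 0)
  have hid : ∑ l, p l ≫ inc l = 𝟙 _ := by
    refine EndAV.Hom.ext (hpe Q _ _ fun t => congrArg EndAV.Hom.toHom (?_ : (∑ l, p l ≫ inc l) ≫ p t = 𝟙 _ ≫ p t))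
    rw [Preadditive.sum_comp, Category.id_comp]
    simp only [Category.assoc, hinc]
    rw [Finset.sum_eq_single t (fun l _ hl => by rw [if_neg hl, Limits.comp_zero]) (by simp)]
    rw [if_pos rfl, Category.comp_id]
  refine ⟨fun l => inc l ≫ f, ?_⟩
  conv_lhs => rw [← Category.id_comp f, ← hid, Preadditive.sum_comp]
  exact Finset.sum_congr rfl fun l _ => Category.assoc _ _ _

/-- the quotient of an abelian variety by an abelian subvariety -/
theorem exists_quotient_sub (i : X ⟶ Y) [IsMonHom i] [IsClosedImmersion i.left] :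
    ∃ (Q : Over (Spec (CommRingCat.of k))) (_ : GrpObj Q) (_ : IsCommMonObj Q) (_ : IsProper Q.hom)
      (_ : GeometricallyIntegral Q.hom) (π : EndAV.Hom Y Q), Surjective π.toHom.left ∧ i ≫ π.toHom = 1 ∧
      ∀ (T : Over (Spec (CommRingCat.of k))) (z : T ⟶ Y), z ≫ π.toHom = 1 → ∃ y : T ⟶ X, y ≫ i = z := by
  obtain ⟨C, _, j, hCp, hCi, hj, hjc, hσs, hσf⟩ := S11999.result k Y X i
  haveI := hj
  haveI := hjc
  haveI := hCp
  haveI := hCi
  haveI := hσs
  haveI := hσf
  haveI : IsCommMonObj C := isCommMonObj_of_isProper_of_geometricallyIntegral C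
  let σ : X ⊗ C ⟶ Y := (fst X C ≫ i) * (snd X C ≫ j)
  haveI : IsProper (X ⊗ C).hom := by rw [Over.tensorObj_hom]; infer_instance
  haveI : GeometricallyIntegral (X ⊗ C).hom := H23.MaxAbelian.geometricallyIntegral_tensor X C
  haveI hσm : IsMonHom σ := GrpSchLib.RigidHom.isMonHom_of_one σ (by
    show η[X ⊗ C] ≫ ((fst X C ≫ i) * (snd X C ≫ j)) = η[Y]
    rw [MonObj.comp_mul, ← Category.assoc, ← Category.assoc, IsMonHom.one_hom (fst X C), IsMonHom.one_hom (snd X C),
      IsMonHom.one_hom i, IsMonHom.one_hom j, MonObj.one_eq_one, _root_.one_mul])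
  let N := Over.mk (pullback.snd σ.left η[Y].left)
  let n : N ⟶ X ⊗ C := Over.homMk (pullback.fst σ.left η[Y].left) (by
    show pullback.fst σ.left η[Y].left ≫ (X ⊗ C).hom = pullback.snd σ.left η[Y].left
    rw [← Over.w σ, pullback.condition_assoc, Over.w η[Y]]
    exact Category.comp_id _)
  have hN : IsPullback n (toUnit N) σ η[Y] := by
    refine IsPullback.of_map (Over.forget _) ?_ (IsPullback.of_hasPullback σ.left η[Y].left)
    ext1
    exact pullback.condition
  haveI : IsFinite N.hom := inferInstanceAs (IsFinite (pullback.snd σ.left η[Y].left))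
  obtain ⟨_, hnm⟩ := IsogLib.exists_grpObj_kernel σ hN
  haveI := hnm
  haveI : Mono n := IsogLib.mono_kernel σ hN
  let c : N ⟶ C := n ≫ snd X C
  haveI : IsClosedImmersion c.left := by
    haveI : Mono i := (Over.forget _).mono_of_mono_map (inferInstanceAs (Mono i.left))
    haveI : Mono c := ⟨fun {T} a b hab => by
      have ha : (a ≫ n) ≫ σ = 1 := by rw [Category.assoc, IsogLib.kernel_comp σ hN, MonObj.comp_one]
      have hb : (b ≫ n) ≫ σ = 1 := by rw [Category.assoc, IsogLib.kernel_comp σ hN, MonObj.comp_one]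
      rw [show σ = (fst X C ≫ i) * (snd X C ≫ j) from rfl, MonObj.comp_mul] at ha hb
      have h2 : (a ≫ n) ≫ snd X C = (b ≫ n) ≫ snd X C := by
        rw [Category.assoc, Category.assoc]; exact hab
      refine (cancel_mono n).1 (CartesianMonoidalCategory.hom_ext _ _ ?_ h2)
      rw [← cancel_mono i]
      simp only [Category.assoc] at ha hb h2 ⊢
      rw [reassoc_of% h2, ← hb] at ha
      exact mul_right_cancel ha⟩
    haveI : IsProper (c.left ≫ C.hom) := by rw [Over.w]; infer_instance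
    haveI : IsProper c.left := IsProper.of_comp c.left C.hom
    haveI : Mono c.left := inferInstanceAs (Mono ((Over.forget _).map c))
    exact (IsClosedImmersion.iff_isProper_and_mono c.left).2 ⟨inferInstance, inferInstance⟩
  haveI : IsMonHom c := inferInstanceAs (IsMonHom (n ≫ snd X C))
  obtain ⟨Q, _, q, hq, hqf, hqflat, hqs, hQp, hQi, hQ⟩ := AVRosati.FinQuot.exists_quotient c
  haveI := hq
  haveI := hqs
  haveI := hQp
  haveI := hQi
  haveI : IsCommMonObj Q := isCommMonObj_of_isProper_of_geometricallyIntegral Q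
  obtain ⟨π, hπm, hπ⟩ := AVRosati.Factor.exists_factor σ (snd X C ≫ q) (fun T g hg => by
    obtain ⟨l, hl⟩ := IsogLib.exists_kernel_lift σ hN g hg
    rw [← hl, Category.assoc, ← Category.assoc n, show (n ≫ snd X C) ≫ q = c ≫ q from rfl,
      IsogLib.kernel_comp q hQ, MonObj.comp_one])
  haveI := hπm
  have hsurj : Surjective π.left := by
    haveI : Surjective (σ.left ≫ π.left) := by
      rw [← Over.comp_left, hπ, Over.comp_left]
      haveI : Surjective (snd X C).left := by
        haveI : Surjective X.hom := ⟨fun y => ⟨η[X].left y, by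
          rw [← Scheme.Hom.comp_apply, Over.w η[X]]; rfl⟩⟩
        exact inferInstanceAs (Surjective (pullback.snd X.hom C.hom))
      infer_instance
    exact Surjective.of_comp σ.left π.left
  refine ⟨Q, inferInstance, inferInstance, hQp, hQi, EndAV.Hom.of π, hsurj, ?_, fun T z hz => ?_⟩
  · show i ≫ π = 1
    have h : lift (𝟙 X) (1 : X ⟶ C) ≫ σ = i := by
      simp only [σ, MonObj.comp_mul, lift_fst_assoc, lift_snd_assoc, Category.id_comp, MonObj.one_comp,
        _root_.mul_one]
    rw [← h, Category.assoc, hπ, lift_snd_assoc, MonObj.one_comp]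
  · haveI : Flat σ.left := by
      haveI : IsIntegral Y.left := H23.MaxAbelian.isIntegral_of_geometricallyIntegral
      haveI : IsProper (σ.left ≫ Y.hom) := by rw [Over.w]; infer_instance
      haveI : IsProper σ.left := IsProper.of_comp _ Y.hom
      haveI : IsSchemeTheoreticallyDominant σ.left := IsSchemeTheoreticallyDominant.of_isDominant _
      exact (GrpSchLib.ImageFlat.flat_surjective_of_dominant σ).1
    let T' := Over.mk (pullback.fst z.left σ.left ≫ T.hom)
    let t : T' ⟶ T := Over.homMk (pullback.fst z.left σ.left) rfl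
    let w : T' ⟶ X ⊗ C := Over.homMk (pullback.snd z.left σ.left) (by
      show _ = pullback.fst z.left σ.left ≫ T.hom
      rw [← Over.w σ, ← Over.w z, pullback.condition_assoc])
    have htw : t ≫ z = w ≫ σ := Over.OverMorphism.ext pullback.condition
    have hwq : (w ≫ snd X C) ≫ q = 1 := by
      rw [Category.assoc, ← hπ, ← reassoc_of% htw, show z ≫ π = 1 from hz, MonObj.comp_one]
    obtain ⟨l, hl⟩ := IsogLib.exists_kernel_lift q hQ (w ≫ snd X C) hwq
    let y' : T' ⟶ X := (w ≫ fst X C) * ((l ≫ n) ≫ fst X C)⁻¹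
    have hy' : y' ≫ i = t ≫ z := by
      have h1 : (l ≫ n) ≫ σ = 1 := by rw [Category.assoc, IsogLib.kernel_comp σ hN, MonObj.comp_one]
      rw [show σ = (fst X C ≫ i) * (snd X C ≫ j) from rfl, MonObj.comp_mul] at h1
      have h3 : l ≫ n ≫ snd X C = w ≫ snd X C := hl
      rw [htw, show σ = (fst X C ≫ i) * (snd X C ≫ j) from rfl, MonObj.comp_mul, MonObj.mul_comp,
        GrpObj.inv_comp]
      simp only [Category.assoc] at h1 ⊢
      rw [reassoc_of% h3] at h1
      rw [eq_inv_of_mul_eq_one_left h1, _root_.inv_inv]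
    haveI : LocallyOfFinitePresentation σ.left := by
      haveI : LocallyOfFiniteType σ.left := inferInstance
      haveI : IsLocallyNoetherian Y.left := LocallyOfFiniteType.isLocallyNoetherian Y.hom
      infer_instance
    haveI : EffectiveEpi t.left := inferInstanceAs (EffectiveEpi (pullback.fst z.left σ.left))
    have hdesc : ∀ {Z : Scheme.{u}} (a b : Z ⟶ T'.left), a ≫ t.left = b ≫ t.left → a ≫ y'.left = b ≫ y'.left := by
      intro Z a b hab
      rw [← cancel_mono i.left, Category.assoc, Category.assoc, ← Over.comp_left, hy', Over.comp_left,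
        reassoc_of% hab]
    let y₀ := EffectiveEpi.desc t.left y'.left hdesc
    have hy₀ : t.left ≫ y₀ = y'.left := EffectiveEpi.fac _ _ hdesc
    refine ⟨Over.homMk y₀ (by rw [← cancel_epi t.left, reassoc_of% hy₀, Over.w y', Over.w t]), ?_⟩
    ext1
    show y₀ ≫ i.left = z.left
    rw [← cancel_epi t.left, reassoc_of% hy₀, ← Over.comp_left, hy', Over.comp_left]

variable [Finite k]

/-- full faithfulness gives a jointly monomorphic finite family -/
theorem exists_jointly_mono (P : Polynomial ℤ)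
    (hff : ∀ (X Y : Over (Spec (CommRingCat.of k))) [GrpObj X] [IsCommMonObj X] [IsProper X.hom] [GeometricallyIntegral X.hom]
      [GrpObj Y] [IsCommMonObj Y] [IsProper Y.hom] [GeometricallyIntegral Y.hom]
      (πX : X ⟶ X) [IsMonHom πX] (hπXb : πX.left.base = 𝟙 _) (hπXle : ∀ U : X.left.Opens, U ≤ πX.left ⁻¹ᵁ U)
      (hπXapp : ∀ (U : X.left.Opens) (s : Γ(X.left, U)), (πX.left.appLE U U (hπXle U)).hom s = s ^ Nat.card k)
      (hPX : Polynomial.eval₂ (Int.castRingHom (EndAV.End X)) (EndAV.End.of πX) P = 0)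
      (πY : Y ⟶ Y) [IsMonHom πY] (hπYb : πY.left.base = 𝟙 _) (hπYle : ∀ U : Y.left.Opens, U ≤ πY.left ⁻¹ᵁ U)
      (hπYapp : ∀ (U : Y.left.Opens) (s : Γ(Y.left, U)), (πY.left.appLE U U (hπYle U)).hom s = s ^ Nat.card k)
      (hPY : Polynomial.eval₂ (Int.castRingHom (EndAV.End Y)) (EndAV.End.of πY) P = 0),
      (∀ f g : EndAV.Hom X Y, (∀ φ : EndAV.Hom Y A, f ≫ φ = g ≫ φ) → f = g) ∧
        (∀ g : EndAV.Hom Y A →+ EndAV.Hom X A,
          (∀ (φ : EndAV.Hom Y A) (s : EndAV.Hom A A), g (φ ≫ s) = g φ ≫ s) →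
            ∃ f : EndAV.Hom X Y, ∀ φ : EndAV.Hom Y A, g φ = f ≫ φ))
    (πX : X ⟶ X) [IsMonHom πX] (hπXb : πX.left.base = 𝟙 _) (hπXle : ∀ U : X.left.Opens, U ≤ πX.left ⁻¹ᵁ U)
    (hπXapp : ∀ (U : X.left.Opens) (s : Γ(X.left, U)), (πX.left.appLE U U (hπXle U)).hom s = s ^ Nat.card k)
    (hPX : Polynomial.eval₂ (Int.castRingHom (EndAV.End X)) (EndAV.End.of πX) P = 0) :
    ∃ (n : ℕ) (ψ : Fin n → EndAV.Hom X A), ∀ (T : Over (Spec (CommRingCat.of k))) (x y : T ⟶ X),
      (∀ i, x ≫ (ψ i).toHom = y ≫ (ψ i).toHom) → x = y := by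
  haveI := (AVHomLib.hom_free (A := X) (B := A)).1
  obtain ⟨n, ψ, hψ⟩ := Module.Finite.exists_fin (R := ℤ) (M := EndAV.Hom X A)
  refine ⟨n, ψ, fun T x y hxy => ?_⟩
  obtain ⟨Q, _, _, hQp, hQi, p, h, hpe, hhp, -⟩ := exists_pow_map ψ
  obtain ⟨N, _, q, j, hq, hj, hjc, hqs, hNp, hNi, hqj⟩ := exists_factor_image h.toHom
  haveI := hq
  haveI := hj
  haveI := hjc
  haveI := hqs
  haveI := hNp
  haveI := hNi
  haveI : IsCommMonObj N := isCommMonObj_of_isProper_of_geometricallyIntegral N
  haveI : Surjective (EndAV.Hom.of q).toHom.left := hqs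
  obtain ⟨πN, hπN, hNb, hNle, hNapp⟩ := exists_frobenius N
  haveI := hπN
  have hPN : Polynomial.eval₂ (Int.castRingHom (EndAV.End N)) (EndAV.End.of πN) P = 0 := by
    refine cancel_hom (A := N) (EndAV.Hom.of q) (EndAV.Hom.ext ?_)
    show q ≫ EndAV.End.toHom (Polynomial.eval₂ (Int.castRingHom (EndAV.End N)) (EndAV.End.of πN) P) = q ≫ 1
    have h' := eval_comp (EndAV.Hom.of q) (EndAV.End.of πX) (EndAV.End.of πN)
      (frob_comm q πX (isPowMap_of πX hπXb hπXle hπXapp) πN (isPowMap_of πN hNb hNle hNapp)) P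
    rw [hPX, EndAV.End.toHom_zero, MonObj.one_comp] at h'
    rw [MonObj.comp_one]
    exact h'.symm
  let res : EndAV.Hom N A →+ EndAV.Hom X A :=
    AddMonoidHom.mk' (fun g => EndAV.Hom.of q ≫ g) fun a b => Preadditive.comp_add _ _ _ _ _ _
  have hinj : Function.Injective res := fun a b hab => cancel_hom (EndAV.Hom.of q) hab
  have hsur : Function.Surjective res := fun f => by
    obtain ⟨a, ha⟩ := (Submodule.mem_span_range_iff_exists_fun ℤ).1
      (hψ ▸ Submodule.mem_top : f ∈ Submodule.span ℤ (Set.range ψ))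
    refine ⟨EndAV.Hom.of j ≫ ∑ t, a t • p t, ?_⟩
    show EndAV.Hom.of q ≫ EndAV.Hom.of j ≫ _ = f
    rw [← Category.assoc, show EndAV.Hom.of q ≫ EndAV.Hom.of j = h from EndAV.Hom.ext hqj, Preadditive.comp_sum,
      ← ha]
    exact Finset.sum_congr rfl fun t _ => by rw [Preadditive.comp_zsmul, hhp]
  let e := AddEquiv.ofBijective res ⟨hinj, hsur⟩
  obtain ⟨f, hf⟩ := (hff N X πN hNb hNle hNapp hPN πX hπXb hπXle hπXapp hPX).2 e.symm.toAddMonoidHom
    (fun φ s => hinj (show res (e.symm (φ ≫ s)) = EndAV.Hom.of q ≫ (e.symm φ ≫ s) by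
      rw [show res (e.symm (φ ≫ s)) = φ ≫ s from e.apply_symm_apply _, ← Category.assoc,
        show EndAV.Hom.of q ≫ e.symm φ = φ from e.apply_symm_apply _]))
  have hid : EndAV.Hom.of q ≫ f = 𝟙 _ := by
    refine (hff X X πX hπXb hπXle hπXapp hPX πX hπXb hπXle hπXapp hPX).1 _ _ fun φ => ?_
    rw [Category.assoc, Category.id_comp, ← hf φ]
    exact e.apply_symm_apply φ
  have h1 : x ≫ h.toHom = y ≫ h.toHom := hpe T _ _ fun t => by
    rw [Category.assoc, Category.assoc, show h.toHom ≫ (p t).toHom = (ψ t).toHom from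
      congrArg EndAV.Hom.toHom (hhp t)]
    exact hxy t
  haveI : Mono j := (Over.forget _).mono_of_mono_map (inferInstanceAs (Mono j.left))
  rw [← hqj, ← Category.assoc, ← Category.assoc, cancel_mono] at h1
  have h2 := congrArg (· ≫ f.toHom) h1
  simp only [Category.assoc, show q ≫ f.toHom = 𝟙 X from congrArg EndAV.Hom.toHom hid, Category.comp_id] at h2
  exact h2

end Groth.Agent.AVCogen

end
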