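import Groth.Agent.AVRosati.PointCount
import Groth.Agent.AVRosati.Factor
import Groth.Agent.IsogLib.Product
import Groth.Agent.IsogLib.Field
import Groth.Prelude.Def_EndRing

/-!
# Frobenius endomorphisms of abelian varieties over a finite field
-/

set_option autoImplicit false
set_option linter.style.haveILetI false
set_option linter.unusedSectionVars false
set_option backward.isDefEq.respectTransparency false
set_option backward.isDefEq.respectTransparency.types false
set_option synthInstance.maxHeartbeats 400000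
set_option maxHeartbeats 1000000

universe u

noncomputable section

open CategoryTheory CategoryTheory.Limits AlgebraicGeometry MonoidalCategory CartesianMonoidalCategory
open scoped MonObj

attribute [-instance] CategoryTheory.catToReflQuiver

namespace Groth.Agent.AVCogen

variable {k : Type u} [Field k] [Finite k]

/-- the Frobenius conditions as a power map -/
theorem isPowMap_of {X : Over (Spec (CommRingCat.of k))} (π : X ⟶ X) (hb : π.left.base = 𝟙 _)
    (hle : ∀ U : X.left.Opens, U ≤ π.left ⁻¹ᵁ U)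
    (happ : ∀ (U : X.left.Opens) (s : Γ(X.left, U)), (π.left.appLE U U (hle U)).hom s = s ^ Nat.card k) :
    WeilLib.IsPowMap π.left (Nat.card k) :=
  ⟨fun x => by rw [hb]; rfl, fun U _ s => happ U s⟩

/-- homomorphisms commute with the Frobenius endomorphisms -/
theorem frob_comm {X Y : Over (Spec (CommRingCat.of k))} (f : X ⟶ Y)
    (πX : X ⟶ X) (hX : WeilLib.IsPowMap πX.left (Nat.card k))
    (πY : Y ⟶ Y) (hY : WeilLib.IsPowMap πY.left (Nat.card k)) : πX ≫ f = f ≫ πY := by
  obtain ⟨F, hF, -, -, hnat⟩ := AVRosati.exists_frob (k := k)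
  have h : ∀ (Z : Over (Spec (CommRingCat.of k))) (π : Z ⟶ Z), WeilLib.IsPowMap π.left (Nat.card k) → π = F Z 1 :=
    fun Z π hπ => Over.OverMorphism.ext (AVRosati.isPowMap_unique hπ (pow_one (Nat.card k) ▸ hF Z 1))
  rw [h X πX hX, h Y πY hY, hnat]

/-- every group scheme has a Frobenius endomorphism -/
theorem exists_frobenius (Y : Over (Spec (CommRingCat.of k))) [GrpObj Y] :
    ∃ (π : Y ⟶ Y) (_ : IsMonHom π) (_ : π.left.base = 𝟙 _) (hle : ∀ U : Y.left.Opens, U ≤ π.left ⁻¹ᵁ U),
      ∀ (U : Y.left.Opens) (s : Γ(Y.left, U)), (π.left.appLE U U (hle U)).hom s = s ^ Nat.card k := by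
  obtain ⟨F, hF, -, -, hnat⟩ := AVRosati.exists_frob (k := k)
  refine ⟨F Y 1, ⟨?_, ?_⟩, ?_, (hF Y 1).le, fun U s => ?_⟩
  · rw [← hnat Y (𝟙_ _) (η[Y]) 1, toUnit_unique (F (𝟙_ _) 1) (𝟙 _), Category.id_comp]
  · rw [← hnat Y (Y ⊗ Y) (μ[Y]) 1]
    congr 1
    refine CartesianMonoidalCategory.hom_ext _ _ ?_ ?_
    · rw [tensorHom_fst, hnat]
    · rw [tensorHom_snd, hnat]
  · ext x
    exact (hF Y 1).base x
  · rw [(hF Y 1).app U ((hF Y 1).le U) s, pow_one]

omit [Finite k]

variable {X Y : Over (Spec (CommRingCat.of k))} [GrpObj X] [IsCommMonObj X] [GrpObj Y] [IsCommMonObj Y]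

/-- polynomials in intertwined endomorphisms are intertwined -/
theorem eval_comp (f : EndAV.Hom X Y) (a : EndAV.End X) (b : EndAV.End Y) (h : a.toHom ≫ f.toHom = f.toHom ≫ b.toHom)
    (P : Polynomial ℤ) :
    EndAV.End.toHom (Polynomial.eval₂ (Int.castRingHom (EndAV.End X)) a P) ≫ f.toHom =
      f.toHom ≫ EndAV.End.toHom (Polynomial.eval₂ (Int.castRingHom (EndAV.End Y)) b P) := by
  have hpow : ∀ n : ℕ, EndAV.End.toHom (a ^ n) ≫ f.toHom = f.toHom ≫ EndAV.End.toHom (b ^ n) := fun n => by
    induction n with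
    | zero => rw [pow_zero, pow_zero, EndAV.End.toHom_one, EndAV.End.toHom_one, Category.id_comp, Category.comp_id]
    | succ n ih =>
      rw [EndAV.End.toHom_pow_succ, EndAV.End.toHom_pow_succ, Category.assoc, h, reassoc_of% ih]
  induction P using Polynomial.induction_on' with
  | add p q hp hq =>
    rw [Polynomial.eval₂_add, Polynomial.eval₂_add, EndAV.End.toHom_add, EndAV.End.toHom_add, MonObj.mul_comp, hp,
      hq, MonObj.comp_mul]
  | monomial n c =>
    rw [Polynomial.eval₂_monomial, Polynomial.eval₂_monomial, EndAV.End.toHom_mul, EndAV.End.toHom_mul,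
      eq_intCast, eq_intCast, EndAV.End.toHom_intCast, EndAV.End.toHom_intCast, Category.assoc,
      ← Category.assoc f.toHom, ← hpow, Category.assoc]
    congr 1
    rw [GrpObj.zpow_comp, Category.id_comp, GrpObj.comp_zpow, Category.comp_id]

/-- an annihilating polynomial passes to sources of injective homomorphisms -/
theorem eval_eq_zero_of_jointly {n : ℕ} (f : Fin n → EndAV.Hom X Y) (a : EndAV.End X) (b : EndAV.End Y)
    (hj : ∀ u v : X ⟶ X, (∀ i, u ≫ (f i).toHom = v ≫ (f i).toHom) → u = v)
    (h : ∀ i, a.toHom ≫ (f i).toHom = (f i).toHom ≫ b.toHom)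
    (P : Polynomial ℤ) (hb : Polynomial.eval₂ (Int.castRingHom (EndAV.End Y)) b P = 0) :
    Polynomial.eval₂ (Int.castRingHom (EndAV.End X)) a P = 0 :=
  EndAV.End.ext (hj _ _ fun i => by
    rw [eval_comp (f i) a b (h i) P, hb, EndAV.End.toHom_zero, EndAV.End.toHom_zero, MonObj.comp_one,
      MonObj.one_comp])

end Groth.Agent.AVCogen

end
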